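import Groth.Agent.Lib.SmoothStrat4.Strata
import Groth.Agent.Lib.RedSep.Basic
import Mathlib

/-!
# Reduced immersions onto differences of closed subsets are strata
-/

set_option autoImplicit false
universe u

open CategoryTheory CategoryTheory.Limits AlgebraicGeometry TopologicalSpace

namespace Groth.Agent.RedStrata4

/-- A reduced immersion with range `Z \ Z'` is the reduced stratum of `(Z, Z')`. -/
theorem exists_iso_stratum {T P : Scheme.{u}} (i : T ⟶ P) [IsImmersion i] [IsReduced T] (Z Z' : Closeds P)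
    (hr : Set.range i = (Z : Set P) \ Z') :
    ∃ e : ((Scheme.IdealSheafData.vanishingIdeal Z).subschemeι ⁻¹ᵁ
        (Scheme.IdealSheafData.vanishingIdeal Z').support.compl).toScheme ⟶ T, IsIso e ∧
      e ≫ i = SmoothStrat4.stratum (Scheme.IdealSheafData.vanishingIdeal Z)
        (Scheme.IdealSheafData.vanishingIdeal Z') := by
  let IZ := Scheme.IdealSheafData.vanishingIdeal Z
  let U : P.Opens := (Scheme.IdealSheafData.vanishingIdeal Z').support.compl
  have hU : ∀ p : P, p ∈ U ↔ p ∉ (Z' : Set P) := fun p => by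
    show p ∈ ((Scheme.IdealSheafData.vanishingIdeal Z').support : Set P)ᶜ ↔ _
    rw [Scheme.IdealSheafData.coe_support_vanishingIdeal]; rfl
  have hiU : Set.range i ⊆ Set.range U.ι := by
    rw [Scheme.Opens.range_ι, hr]
    exact fun p hp => (hU p).2 hp.2
  let i' := IsOpenImmersion.lift U.ι i hiU
  have hi' : i' ≫ U.ι = i := IsOpenImmersion.lift_fac _ _ _
  haveI : IsImmersion (i' ≫ U.ι) := by rw [hi']; infer_instance
  haveI : IsImmersion i' := IsImmersion.of_comp i' U.ι
  have hri' : Set.range i' = U.ι ⁻¹' (Z : Set P) := by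
    ext p
    constructor
    · rintro ⟨t, rfl⟩
      show U.ι (i' t) ∈ (Z : Set P)
      rw [← Scheme.Hom.comp_apply, hi']
      exact (hr.le ⟨t, rfl⟩).1
    · intro hp
      have hpU : U.ι p ∈ U := by rw [← SetLike.mem_coe, ← Scheme.Opens.range_ι]; exact ⟨p, rfl⟩
      obtain ⟨t, ht⟩ := hr.ge ⟨hp, (hU _).1 hpU⟩
      exact ⟨t, U.ι.isOpenEmbedding.injective (by rw [← Scheme.Hom.comp_apply, hi']; exact ht)⟩
  haveI : IsClosedImmersion i' := .of_isPreimmersion i' (by rw [hri']; exact Z.isClosed.preimage U.ι.continuous)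
  let j := IZ.subschemeι ∣_ U
  haveI : IsReduced IZ.subscheme := RedSepLib.isReduced_vanishingIdeal_subscheme Z
  haveI : IsReduced (IZ.subschemeι ⁻¹ᵁ U).toScheme := inferInstance
  haveI : IsClosedImmersion j := IsZariskiLocalAtTarget.restrict (P := @IsClosedImmersion) inferInstance U
  have hj : j ≫ U.ι = (IZ.subschemeι ⁻¹ᵁ U).ι ≫ IZ.subschemeι := morphismRestrict_ι _ _
  have hrange : Set.range IZ.subschemeι = (Z : Set P) := by
    rw [Scheme.IdealSheafData.range_subschemeι, Scheme.IdealSheafData.coe_support_vanishingIdeal]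
  have hrj : Set.range j = U.ι ⁻¹' (Z : Set P) := by
    ext p
    constructor
    · rintro ⟨t, rfl⟩
      show U.ι (j t) ∈ (Z : Set P)
      rw [← Scheme.Hom.comp_apply, hj, ← hrange]
      exact ⟨_, rfl⟩
    · intro hp
      obtain ⟨z, hz⟩ := hrange.ge hp
      have hz' : z ∈ IZ.subschemeι ⁻¹ᵁ U := by
        show IZ.subschemeι z ∈ U
        rw [hz, ← SetLike.mem_coe, ← Scheme.Opens.range_ι]; exact ⟨p, rfl⟩
      refine ⟨⟨z, hz'⟩, U.ι.isOpenEmbedding.injective ?_⟩
      rw [← Scheme.Hom.comp_apply, hj]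
      exact hz
  obtain ⟨e, hei⟩ := RedSepLib.exists_iso_of_range_eq j i' (hrj.trans hri'.symm)
  refine ⟨e.hom, inferInstance, ?_⟩
  rw [← hi', ← Category.assoc, hei]
  exact hj

end Groth.Agent.RedStrata4
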